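import Mathlib.LinearAlgebra.BilinearForm.Orthogonal
import Mathlib.LinearAlgebra.FreeModule.PID
import Mathlib.LinearAlgebra.Dual.Basis
import Mathlib.LinearAlgebra.Dimension.RankNullity
import Mathlib.LinearAlgebra.Dimension.Torsion.Finite
import Mathlib.LinearAlgebra.Dimension.Localization
import Mathlib.Algebra.Module.Projective

/-!
Positive definite integral lattices: saturation, double orthogonals, duals of sublattices.
-/

set_option autoImplicit false

namespace Groth.Agent.LatticeForm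

/-- A nondegenerate pairing of a lattice with itself has torsion cokernel. -/
theorem exists_smul_mem_range {M : Type*} [AddCommGroup M] [Module.Finite ℤ M] [Module.Free ℤ M]
    (φ : M →ₗ[ℤ] Module.Dual ℤ M) (hφ : Function.Injective φ) (y : Module.Dual ℤ M) :
    ∃ c : ℤ, c ≠ 0 ∧ c • y ∈ LinearMap.range φ := by
  classical
  have h1 : Module.finrank ℤ (Module.Dual ℤ M) = Module.finrank ℤ M :=
    ((Module.Free.chooseBasis ℤ M).toDualEquiv).finrank_eq.symm
  have h2 : Module.finrank ℤ (LinearMap.range φ) = Module.finrank ℤ M :=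
    LinearMap.finrank_range_of_inj hφ
  have h3 := (LinearMap.range φ).finrank_quotient_add_finrank
  have h4 : Module.IsTorsion ℤ (Module.Dual ℤ M ⧸ LinearMap.range φ) :=
    Module.finrank_eq_zero_iff_isTorsion.1 (by omega)
  obtain ⟨a, ha⟩ := @h4 (Submodule.Quotient.mk y)
  refine ⟨a, nonZeroDivisors.coe_ne_zero a, ?_⟩
  rwa [← Submodule.Quotient.mk_eq_zero, Submodule.Quotient.mk_smul]

variable {L : Type*} [AddCommGroup L] [Module.Finite ℤ L] [Module.Free ℤ L]

/-- The restriction of a bilinear form to a submodule, as a map to the dual. -/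
def restrictDual (B : LinearMap.BilinForm ℤ L) (A : Submodule ℤ L) : ↥A →ₗ[ℤ] Module.Dual ℤ ↥A :=
  (B.compl₂ A.subtype) ∘ₗ A.subtype

omit [Module.Finite ℤ L] [Module.Free ℤ L] in
@[simp] theorem restrictDual_apply (B : LinearMap.BilinForm ℤ L) (A : Submodule ℤ L) (a b : ↥A) :
    restrictDual B A a b = B a b := rfl

omit [Module.Finite ℤ L] [Module.Free ℤ L] in
theorem restrictDual_injective (B : LinearMap.BilinForm ℤ L) (hpos : ∀ x, x ≠ 0 → 0 < B x x)
    (A : Submodule ℤ L) : Function.Injective (restrictDual B A) := by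
  rw [injective_iff_map_eq_zero]
  intro a ha
  by_contra h
  have h' : (a : L) ≠ 0 := fun e => h (Subtype.ext e)
  have := hpos a h'
  rw [← restrictDual_apply, ha] at this
  simp at this

theorem exists_smul_eq_restrict (B : LinearMap.BilinForm ℤ L) (hpos : ∀ x, x ≠ 0 → 0 < B x x)
    (A : Submodule ℤ L) (ψ : Module.Dual ℤ ↥A) :
    ∃ c : ℤ, c ≠ 0 ∧ ∃ a : ↥A, ∀ b : ↥A, B a b = c * ψ b := by
  obtain ⟨c, hc, a, ha⟩ := exists_smul_mem_range _ (restrictDual_injective B hpos A) ψ
  exact ⟨c, hc, a, fun b => by rw [← restrictDual_apply, ha]; simp⟩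

theorem mem_of_orthogonal_orthogonal (B : LinearMap.BilinForm ℤ L) (hsymm : B.IsSymm)
    (hpos : ∀ x, x ≠ 0 → 0 < B x x) (A : Submodule ℤ L)
    (htf : ∀ (c : ℤ) (x : L), c ≠ 0 → c • x ∈ A → x ∈ A) (y : L)
    (hy : ∀ b ∈ B.orthogonal A, B y b = 0) : y ∈ A := by
  obtain ⟨c, hc, a, ha⟩ := exists_smul_eq_restrict B hpos A ((B y) ∘ₗ A.subtype)
  have hb : c • y - (a : L) ∈ B.orthogonal A := by
    intro n hn
    change B n (c • y - (a : L)) = 0
    rw [hsymm.eq, map_sub, map_smul, LinearMap.sub_apply, LinearMap.smul_apply,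
      show B a n = c * B y n from ha ⟨n, hn⟩]
    simp
  have h1 : B (a : L) (c • y - (a : L)) = 0 := hb a a.2
  have h2 := hy _ hb
  have h3 : B (c • y - (a : L)) (c • y - (a : L)) = 0 := by
    rw [map_sub B, map_smul B, LinearMap.sub_apply, LinearMap.smul_apply, h1, h2]
    simp
  have h4 : c • y - (a : L) = 0 := by
    by_contra h
    exact absurd h3 (ne_of_gt (hpos _ h))
  exact htf c y hc (by rw [sub_eq_zero.1 h4]; exact a.2)

omit [Module.Free ℤ L] in
theorem exists_dual_extend (A : Submodule ℤ L)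
    (htf : ∀ (c : ℤ) (x : L), c ≠ 0 → c • x ∈ A → x ∈ A) (ψ : Module.Dual ℤ ↥A) :
    ∃ φ : Module.Dual ℤ L, φ ∘ₗ A.subtype = ψ := by
  have : Module.IsTorsionFree ℤ (L ⧸ A) := by
    rw [Module.isTorsionFree_iff_smul_eq_zero]
    intro c q hq
    obtain ⟨x, rfl⟩ := A.mkQ_surjective q
    rcases eq_or_ne c 0 with h | h
    · exact Or.inl h
    · refine Or.inr ((Submodule.Quotient.mk_eq_zero A).2 (htf c x h ?_))
      rwa [← Submodule.Quotient.mk_eq_zero, Submodule.Quotient.mk_smul]
  have : Module.Free ℤ (L ⧸ A) := Module.free_of_finite_type_torsion_free'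
  obtain ⟨s, hs⟩ := Module.projective_lifting_property A.mkQ LinearMap.id A.mkQ_surjective
  have hp : ∀ x, (LinearMap.id - s ∘ₗ A.mkQ : L →ₗ[ℤ] L) x ∈ A := by
    intro x
    rw [← Submodule.Quotient.mk_eq_zero]
    have := LinearMap.congr_fun hs (A.mkQ x)
    simp only [LinearMap.comp_apply, LinearMap.id_apply] at this
    change A.mkQ _ = 0
    simp only [LinearMap.sub_apply, LinearMap.id_apply, LinearMap.comp_apply, map_sub, this, sub_self]
  refine ⟨ψ ∘ₗ (LinearMap.id - s ∘ₗ A.mkQ).codRestrict A hp, LinearMap.ext fun a => ?_⟩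
  simp only [LinearMap.comp_apply]
  congr 1
  ext
  have : A.mkQ (a : L) = 0 := (Submodule.Quotient.mk_eq_zero A).2 a.2
  simp [this]

end Groth.Agent.LatticeForm
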